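import Mathlib
import Groth.Prelude
import Groth.Agent.Lib.Helper7.EtCoord.DiffSpan
import Groth.Agent.Lib.Helper7.SHens.CMFlat
import Groth.Agent.Lib.Helper8.FlatReg6

/-! helper7: quasi-finite maps from a polynomial ring (S9159): the local ring at a prime is flat
over the polynomial ring iff it is Cohen-Macaulay of local dimension d; flatness over a regular
local base with Artinian closed fibre is equivalent to Cohen-Macaulay plus equality of
dimensions (via the depth formula and miracle flatness). -/

set_option linter.style.haveILetI false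
set_option linter.unusedVariables false
set_option linter.unusedSectionVars false
set_option linter.overlappingInstances false

open IsLocalRing TensorProduct LocCoh

namespace Groth.Agent.Helper7.QFFlat

universe u

section Local

variable (R T : Type u) [CommRing R] [CommRing T] [IsLocalRing R] [IsLocalRing T] [Algebra R T]
  [IsLocalHom (algebraMap R T)]

theorem map_maximalIdeal_le : (maximalIdeal R).map (algebraMap R T) ≤ maximalIdeal T :=
  ((IsLocalRing.local_hom_TFAE (algebraMap R T)).out 0 2).mp ‹_›

/-- Artinian closed fibre: a power of the maximal ideal lies in the extended ideal. -/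
theorem exists_pow_le
    (hA : IsArtinianRing (T ⧸ (maximalIdeal R).map (algebraMap R T))) :
    ∃ k : ℕ, maximalIdeal T ^ k ≤ (maximalIdeal R).map (algebraMap R T) := by
  set I := (maximalIdeal R).map (algebraMap R T) with hI
  have h1 : (maximalIdeal T).map (Ideal.Quotient.mk I) ≤ Ideal.jacobson (⊥ : Ideal (T ⧸ I)) := by
    refine le_sInf ?_
    rintro M ⟨-, hM⟩
    rw [Ideal.map_le_iff_le_comap]
    haveI := hM
    haveI : (M.comap (Ideal.Quotient.mk I)).IsMaximal :=
      Ideal.comap_isMaximal_of_surjective _ Ideal.Quotient.mk_surjective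
    exact (IsLocalRing.eq_maximalIdeal this).ge
  obtain ⟨k, hk⟩ := IsArtinianRing.isNilpotent_jacobson_bot (R := T ⧸ I)
  refine ⟨k, ?_⟩
  have h2 : (maximalIdeal T ^ k).map (Ideal.Quotient.mk I) = ⊥ := by
    rw [Ideal.map_pow, ← le_bot_iff, ← Ideal.zero_eq_bot, ← hk]
    exact Ideal.pow_right_mono h1 k
  rw [← Ideal.mk_ker (I := I), ← Ideal.map_eq_bot_iff_le_ker]
  exact h2

theorem ringKrullDim_fibre_eq_zero
    (hA : IsArtinianRing (T ⧸ (maximalIdeal R).map (algebraMap R T))) :
    ringKrullDim (T ⧸ (maximalIdeal R).map (algebraMap R T)) = 0 := by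
  haveI : Nontrivial (T ⧸ (maximalIdeal R).map (algebraMap R T)) :=
    Ideal.Quotient.nontrivial_iff.mpr
      (fun h => (Ideal.IsPrime.ne_top inferInstance : maximalIdeal T ≠ ⊤)
        (top_le_iff.mp (h ▸ map_maximalIdeal_le R T)))
  exact (ringKrullDimZero_iff_ringKrullDim_eq_zero).mp inferInstance

end Local

/-- Flatness over a regular local base with Artinian closed fibre. -/
theorem flat_iff_cm_and_dim_eq (R T : Type u) [CommRing R] [CommRing T] [IsRegularLocalRing R]
    [IsLocalRing T] [IsNoetherianRing T] [Algebra R T] [IsLocalHom (algebraMap R T)]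
    (hA : IsArtinianRing (T ⧸ (maximalIdeal R).map (algebraMap R T))) :
    Module.Flat R T ↔ (IsCohenMacaulayLocalRing T ∧ ringKrullDim T = ringKrullDim R) := by
  obtain ⟨k, hk⟩ := exists_pow_le R T hA
  constructor
  · intro hfl
    haveI := hfl
    refine ⟨?_, Groth.Agent.Helper7.SHens.ringKrullDim_eq_of_flat_of_pow_le R T k hk⟩
    exact (Groth.Agent.Helper7.SHens.cm_iff_of_flat_of_pow_le R T k hk).mpr
      (Groth.Agent.Helper8.FlatReg.isCohenMacaulayLocalRing_of_isRegularLocalRing R)
  · rintro ⟨hCM, hdim⟩
    haveI := hCM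
    refine Groth.Agent.Helper8.FlatReg.miracle_flatness ?_
    rw [ringKrullDim_fibre_eq_zero R T hA, add_zero, hdim]


section QF

variable (P S : Type u) [CommRing P] [CommRing S] [Algebra P S] [Algebra.QuasiFinite P S]
  (q : Ideal S) [q.IsPrime]

/-- The closed fibre of the local homomorphism at a prime of a quasi-finite algebra is Artinian. -/
theorem isArtinianRing_closedFibre (p : Ideal P) [p.IsPrime] [q.LiesOver p]
    [Algebra (Localization.AtPrime p) (Localization.AtPrime q)]
    [IsScalarTower P (Localization.AtPrime p) (Localization.AtPrime q)] :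
    IsArtinianRing (Localization.AtPrime q ⧸
      (maximalIdeal (Localization.AtPrime p)).map
        (algebraMap (Localization.AtPrime p) (Localization.AtPrime q))) := by
  set Rp := Localization.AtPrime p
  set T := Localization.AtPrime q
  set F := T ⧸ (maximalIdeal Rp).map (algebraMap Rp T)
  letI : Field (Rp ⧸ maximalIdeal Rp) := Ideal.Quotient.field _
  haveI : IsScalarTower P Rp F := inferInstance
  haveI : IsScalarTower P (Rp ⧸ maximalIdeal Rp) F := IsScalarTower.of_algebraMap_eq (fun x => by
    rw [IsScalarTower.algebraMap_apply P Rp (Rp ⧸ maximalIdeal Rp),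
      ← IsScalarTower.algebraMap_apply Rp (Rp ⧸ maximalIdeal Rp) F,
      ← IsScalarTower.algebraMap_apply P Rp F])
  haveI : Algebra.QuasiFinite P F := inferInstance
  haveI : Algebra.QuasiFinite (Rp ⧸ maximalIdeal Rp) F :=
    Algebra.QuasiFinite.of_restrictScalars P _ _
  haveI : Module.Finite (Rp ⧸ maximalIdeal Rp) F := Module.Finite.of_quasiFinite
  exact IsArtinianRing.of_finite (Rp ⧸ maximalIdeal Rp) F

end QF


section Main

variable (k S : Type u) [Field k] [CommRing S] [Algebra k S] [Algebra.FiniteType k S] (d : ℕ)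
  [Algebra (MvPolynomial (Fin d) k) S] [IsScalarTower k (MvPolynomial (Fin d) k) S]
  [Algebra.QuasiFinite (MvPolynomial (Fin d) k) S] (q : Ideal S) [q.IsPrime]

open Groth.Agent.Helper7.EtCoord in
theorem main : Module.Flat (MvPolynomial (Fin d) k) (Localization.AtPrime q) ↔
      (LocCoh.IsCohenMacaulayLocalRing (Localization.AtPrime q) ∧
        FlatMor.localDim (PrimeSpectrum S) ⟨q, inferInstance⟩ = (d : WithBot ℕ∞)) := by
  haveI : IsNoetherianRing S := Algebra.FiniteType.isNoetherianRing k S
  have hlo : q.LiesOver (q.under (MvPolynomial (Fin d) k)) := ⟨rfl⟩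
  letI := Localization.AtPrime.algebraOfLiesOver (q.under (MvPolynomial (Fin d) k)) q
  have hA := isArtinianRing_closedFibre (MvPolynomial (Fin d) k) S q
    (q.under (MvPolynomial (Fin d) k))
  rw [← Module.flat_iff_of_isLocalization
    (Localization.AtPrime (q.under (MvPolynomial (Fin d) k)))
    (q.under (MvPolynomial (Fin d) k)).primeCompl (Localization.AtPrime q),
    flat_iff_cm_and_dim_eq _ _ hA]
  refine and_congr_right (fun _ => ?_)
  haveI : Module.Finite (q.under (MvPolynomial (Fin d) k)).ResidueField q.ResidueField :=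
    inferInstance
  haveI : Algebra.IsAlgebraic (q.under (MvPolynomial (Fin d) k)).ResidueField q.ResidueField :=
    Algebra.IsAlgebraic.of_finite _ _
  obtain ⟨t, ht⟩ := exists_trdeg_residueField k S q
  have ht' : Algebra.trdeg k (q.under (MvPolynomial (Fin d) k)).ResidueField = t := by
    rw [← trdeg_residueField_eq k (MvPolynomial (Fin d) k) S (q.under _) q, ht]
  have h1 := Groth.Agent.Lib.Helper4.DimFT2.S2141_main (k := k) q t ht
  have h2 := Groth.Agent.Lib.Helper4.DimFT2.S2141_main (k := k)
    (q.under (MvPolynomial (Fin d) k)) t ht'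
  rw [localDim_mvPolynomial] at h2
  obtain ⟨a, ha⟩ := exists_nat_ringKrullDim (Localization.AtPrime q)
  obtain ⟨b, hb⟩ := exists_nat_ringKrullDim
    (Localization.AtPrime (q.under (MvPolynomial (Fin d) k)))
  rw [h1, ha, hb]
  rw [hb] at h2
  have h4 : d = b + t := by exact_mod_cast h2
  constructor
  · intro h
    have h5 : a = b := by exact_mod_cast h
    rw [h4, h5]
    push_cast
    rfl
  · intro h
    have h5 : a + t = d := by exact_mod_cast h
    have h6 : a = b := by omega
    rw [h6]

end Main

end Groth.Agent.Helper7.QFFlat
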